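import Groth.Agent.CycLib.SchemeDim
import Groth.Agent.LocCoh.Connected
import Groth.Agent.AlgSpD.RelDim
import Mathlib.RingTheory.AlgebraicIndependent.Transcendental

/-!
# A local rank function on the generizations of a point

For `f : U ⟶ S` locally of finite type over a locally Noetherian scheme with universally catenary local
rings and `u : U`, a function on `U` which behaves as a dimension function on the generizations of `u`
and depends only on `f v` and the residual transcendence degree of `v`.
-/

universe u

open CategoryTheory CategoryTheory.Limits AlgebraicGeometry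

set_option autoImplicit false
set_option linter.style.haveILetI false
set_option backward.isDefEq.respectTransparency false

namespace Groth.Agent.DecCat

open Groth.Agent

/-- The coheight of primes is a dimension function on a catenary Noetherian local ring. -/
theorem isDimFun_coheight (R : CommRingCat.{u}) [IsLocalRing R] [IsNoetherianRing R]
    (hcat : CAlg.IsCatenary R) :
    Cyc.IsDimFun (Spec R) fun p : ↥(Spec R) => ((Order.coheight (α := PrimeSpectrum R) p).toNat : ℤ) := by
  have hfin : ∀ p : PrimeSpectrum R, Order.coheight p ≠ ⊤ := fun p h => by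
    have h1 : (Order.coheight p : WithBot ℕ∞) ≤ ringKrullDim R := Order.coheight_le_krullDim p
    rw [h] at h1
    exact absurd (h1.trans_lt ringKrullDim_lt_top) (lt_irrefl _)
  have hq : ∀ p : PrimeSpectrum R, ringKrullDim (R ⧸ p.asIdeal) = (Order.coheight p : WithBot ℕ∞) := by
    intro p
    rw [Order.coheight_eq_krullDim_Ici, ringKrullDim_quotient]
    refine Order.krullDim_eq_of_orderIso (OrderIso.setCongr _ _ ?_)
    ext q
    exact PrimeSpectrum.mem_zeroLocus q _
  intro x y hxy hne
  change PrimeSpectrum R at x y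
  have hlt : x < y := lt_of_le_of_ne ((PrimeSpectrum.le_iff_specializes x y).2 hxy) hne
  obtain ⟨a, ha⟩ := ENat.ne_top_iff_exists.1 (hfin x)
  obtain ⟨b, hb⟩ := ENat.ne_top_iff_exists.1 (hfin y)
  simp only [← ha, ← hb, ENat.toNat_natCast, Nat.cast_lt]
  refine ⟨?_, fun himm => ?_⟩
  · have := Order.coheight_strictAnti hlt (hfin y).lt_top
    rw [← ha, ← hb] at this
    exact_mod_cast this
  · have hcov : x ⋖ y := by
      refine ⟨hlt, fun c hc1 hc2 => ?_⟩
      rcases himm c ((PrimeSpectrum.le_iff_specializes x c).1 hc1.le)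
        ((PrimeSpectrum.le_iff_specializes c y).1 hc2.le) with h | h
      · exact hc1.ne' h
      · exact hc2.ne h
    have := LocCoh.ringKrullDim_quotient_covBy hcat hcov
    rw [hq, hq, ← ha, ← hb] at this
    have : (a : ℕ∞) = b + 1 := by exact_mod_cast this
    exact_mod_cast this

/-- A quotient of a universally catenary ring is universally catenary. -/
theorem isUniversallyCatenary_of_surjective {A B : Type u} [CommRing A] [CommRing B] (φ : A →+* B)
    (hφ : Function.Surjective φ) (h : CAlg.IsUniversallyCatenary A) : CAlg.IsUniversallyCatenary B := by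
  haveI := h.1
  refine ⟨isNoetherianRing_of_surjective A B φ hφ, fun T _ _ hT => ?_⟩
  letI : Algebra A T := ((algebraMap B T).comp φ).toAlgebra
  refine h.2 T ?_
  show (algebraMap A T).FiniteType
  exact RingHom.FiniteType.comp (RingHom.finiteType_algebraMap.2 hT) (RingHom.FiniteType.of_surjective φ hφ)

/-- Preimmersions induce residual transcendence degree zero. -/
theorem resTrdeg_preimmersion {Y Z : Scheme.{u}} (j : Y ⟶ Z) [IsPreimmersion j] (y : Y) :
    Dual3.resTrdeg j y = 0 := by
  unfold Dual3.resTrdeg
  letI := (j.residueFieldMap y).hom.toAlgebra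
  have hs : Function.Surjective (j.residueFieldMap y).hom := fun z => by
    obtain ⟨w, rfl⟩ := Y.residue_surjective y z
    obtain ⟨v, rfl⟩ := j.stalkMap_surjective y w
    exact ⟨Z.residue (j y) v, (ConcreteCategory.congr_hom (Scheme.residue_residueFieldMap j y) v :)⟩
  haveI : Algebra.IsAlgebraic (Z.residueField (j y)) (Y.residueField y) :=
    ⟨fun z => by
      obtain ⟨v, rfl⟩ := hs z
      exact isAlgebraic_algebraMap v⟩
  exact trdeg_eq_zero

theorem exists_rank {U S : Scheme.{u}} (f : U ⟶ S) [LocallyOfFiniteType f] [IsLocallyNoetherian S]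
    (hcat : ∀ s, CAlg.IsUniversallyCatenary ↥(S.presheaf.stalk s)) (u : U) :
    ∃ ρ : U → ℤ, (∀ v w, v ⤳ w → w ⤳ u → v ≠ w →
        ρ w < ρ v ∧ ((∀ z, v ⤳ z → z ⤳ w → z = v ∨ z = w) → ρ v = ρ w + 1)) ∧
      ∀ v v', v ⤳ u → v' ⤳ u → f v = f v' → Dual3.resTrdeg f v = Dual3.resTrdeg f v' → ρ v = ρ v' := by
  classical
  let R := S.presheaf.stalk (f u)
  haveI : IsNoetherianRing R := (hcat (f u)).1
  have hcR : CAlg.IsCatenary R := (hcat (f u)).2 R inferInstance
  let i := S.fromSpecStalk (f u)
  haveI : Nonempty ↥(Spec R) := ⟨IsLocalRing.closedPoint R⟩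
  let δ' : ↥(Spec R) → ℤ := fun p => ((Order.coheight (α := PrimeSpectrum R) p).toNat : ℤ)
  let ρ : U → ℤ := fun v => δ' (Function.invFun i (f v)) + ((Cardinal.toNat (Dual3.resTrdeg f v) : ℕ) : ℤ)
  refine ⟨ρ, ?_, fun v v' _ _ e1 e2 => by simp only [ρ, e1, e2]⟩
  let g := pullback.snd f i
  let j := pullback.fst f i
  have hj : IsPreimmersion j :=
    MorphismProperty.pullback_fst (P := @IsPreimmersion) f i (inferInstanceAs (IsPreimmersion (S.fromSpecStalk _)))
  haveI : LocallyOfFiniteType g := MorphismProperty.pullback_snd f i inferInstance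
  have hcompat : Cyc.DeltaCompat g (fun z => ρ (j z)) δ' := by
    intro z
    obtain ⟨n, m, hm, -⟩ := AlgSpD.exists_fibre_dims f (j z)
    have e : Dual3.resTrdeg (j ≫ f) z = Dual3.resTrdeg (g ≫ i) z := by rw [pullback.condition]
    haveI : IsPreimmersion i := inferInstanceAs (IsPreimmersion (S.fromSpecStalk _))
    rw [AlgSpD.resTrdeg_comp, AlgSpD.resTrdeg_comp, resTrdeg_preimmersion j, resTrdeg_preimmersion i,
      zero_add, add_zero, hm] at e
    refine ⟨m, e.symm, ?_⟩
    have : f (j z) = i (g z) := by rw [← Scheme.Hom.comp_apply, ← Scheme.Hom.comp_apply, pullback.condition]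
    simp only [ρ, hm, Cardinal.toNat_natCast]
    rw [this, Function.leftInverse_invFun i.isEmbedding.injective]
  haveI : IsLocallyNoetherian (Spec R) := inferInstance
  have hcatR : ∀ s, CAlg.IsUniversallyCatenary ↥((Spec R).presheaf.stalk s) := fun s => by
    haveI : IsPreimmersion i := inferInstanceAs (IsPreimmersion (S.fromSpecStalk _))
    exact isUniversallyCatenary_of_surjective (i.stalkMap s).hom (i.stalkMap_surjective s) (hcat (i s))
  have hdim := CycLib.isDimFun_of_deltaCompat g hcatR (isDimFun_coheight R hcR) hcompat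
  have hmem : ∀ v, v ⤳ u → ∃ z, j z = v := fun v hv => by
    change v ∈ Set.range j
    rw [Scheme.Pullback.range_fst, Set.mem_preimage, Scheme.range_fromSpecStalk]
    exact hv.map f.continuous
  intro v w hvw hwu hne
  obtain ⟨z₁, rfl⟩ := hmem v (hvw.trans hwu)
  obtain ⟨z₂, rfl⟩ := hmem w hwu
  obtain ⟨h1, h2⟩ := hdim z₁ z₂ (j.isEmbedding.isInducing.specializes_iff.1 hvw) fun h => hne (h ▸ rfl)
  exact ⟨h1, fun himm => h2 fun z a b =>
    (himm (j z) (a.map j.continuous) (b.map j.continuous)).imp (fun h => j.isEmbedding.injective h)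
      fun h => j.isEmbedding.injective h⟩

end Groth.Agent.DecCat
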