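import Groth.Agent.DecCat.Sch
import Groth.Agent.AlgSpD.DecentDim
import Groth.Agent.PtTop.Catenary
import Groth.Prelude.Def_W4stk3decentspacesp2Birat

/-!
# Dimension functions and catenarity for decent algebraic spaces
-/

universe u

open CategoryTheory CategoryTheory.Limits AlgebraicGeometry TopologicalSpace

set_option autoImplicit false
set_option linter.style.haveILetI false
set_option backward.isDefEq.respectTransparency false

namespace Groth.Agent.DecCat

open Groth.Agent

variable {S : Scheme.{u}} (X : AlgSp.Space S) (hX : AlgSp.IsDecent X.obj) {U : Over S}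
  (a : (AlgSp.yon S).obj U ⟶ X.obj) (ha : AlgSp.RepWith @Etale a)

include hX ha in
/-- Dimension functions descend along etale charts of decent spaces. -/
theorem rank_points (δX : AlgSp.Points X.obj → ℤ) (hs : Function.Surjective (AlgSp.Points.ofPt a))
    (hU : Cyc.IsDimFun U.left (δX ∘ AlgSp.Points.ofPt a)) (x y : AlgSp.Points X.obj) (hxy : x ⤳ y)
    (hne : x ≠ y) :
    δX y < δX x ∧ ((∀ z : AlgSp.Points X.obj, x ⤳ z → z ⤳ y → z = x ∨ z = y) → δX x = δX y + 1) := by
  obtain ⟨u, rfl⟩ := hs y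
  obtain ⟨v, hvu, rfl⟩ := AlgSpD.exists_lift_of_specializes X hX a ha u x hxy
  obtain ⟨h1, h2⟩ := hU v u hvu fun h => hne (h ▸ rfl)
  refine ⟨h1, fun himm => h2 fun z hvz hzu => ?_⟩
  rcases himm _ (hvz.map (AlgSp.Points.continuous_ofPt a)) (hzu.map (AlgSp.Points.continuous_ofPt a)) with h | h
  · exact Or.inl (S10340.result X hX a ha z v h hvz)
  · exact Or.inr (S10340.result X hX a ha u z h.symm hzu).symm

/-- Catenarity of decent spaces locally of finite type over a universally catenary base. -/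
theorem cat_points [IsLocallyNoetherian S] (hS : ∀ s : ↥S, CAlg.IsUniversallyCatenary ↥(S.presheaf.stalk s))
    (hX : AlgSp.IsDecent X.obj) (p : X.obj ⟶ (AlgSp.yon S).obj (Over.mk (𝟙 S)))
    (hp : AlgSp.LocP @LocallyOfFiniteType p) :
    PtTop.Catenary.Cat (IrreducibleCloseds (AlgSp.Points X.obj)) := by
  have := S10338.result X hX
  have := S10339.result X hX
  obtain ⟨U, a, ha, has⟩ := X.property.atlas
  have hs := AlgSpB.surjective_ofPt has
  obtain ⟨f, hf⟩ := (AlgSp.yon S).map_surjective (a ≫ p)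
  have hid : AlgSp.RepWith @Etale (𝟙 ((AlgSp.yon S).obj (Over.mk (𝟙 S)))) := AlgSp.repWith_id _ _
  have w : a ≫ p = (AlgSp.yon S).map f ≫ 𝟙 _ := by rw [Category.comp_id, hf]
  haveI : LocallyOfFiniteType f.left := hp a (𝟙 _) f ha hid w
  have hres : ∀ v v' : ↥U.left, AlgSp.Points.ofPt a v = AlgSp.Points.ofPt a v' →
      f.left v = f.left v' ∧ Dual3.resTrdeg f.left v = Dual3.resTrdeg f.left v' := by
    intro v v' h
    refine ⟨?_, ?_⟩
    · have e : ∀ t : ↥U.left, AlgSp.Points.toScheme _ (AlgSp.Points.map p (AlgSp.Points.ofPt a t)) = f.left t :=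
        fun t => by rw [AlgSp.Points.map_ofPt, ← hf, AlgSp.Points.toScheme_ofPt]
      rw [← e, ← e, h]
    · let p' : X ⟶ (⟨_, AlgSp.IsAlgSpace.yon_obj (Over.mk (𝟙 S))⟩ : AlgSp.Space S) := ObjectProperty.homMk p
      refine ((AlgSpD.hasAtMor_iff_chart (AlgSpD.morEtaleInv_resTrdeg _) p' ha hid w v).1 ?_)
      rw [h]
      exact (AlgSpD.hasAtMor_iff_chart (AlgSpD.morEtaleInv_resTrdeg (Dual3.resTrdeg f.left v')) p' ha hid w v').2 rfl
  refine PtTop.Catenary.cat_of_cover fun T T' hTT' =>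
    ⟨Set.Ici T, inferInstance, OrderEmbedding.subtype (· ∈ Set.Ici T), ?_, ⟨⟨T, Set.mem_Ici.2 le_rfl⟩, rfl⟩,
      ⟨⟨T', hTT'⟩, rfl⟩, ?_⟩
  · rw [show Set.range (OrderEmbedding.subtype (· ∈ Set.Ici T)) = Set.Ici T from Subtype.range_val]
    exact Set.ordConnected_Ici
  obtain ⟨u, hu⟩ := hs T.isIrreducible.genericPoint
  haveI : IsLocallyNoetherian (Over.mk (𝟙 S)).left := ‹IsLocallyNoetherian S›
  obtain ⟨ρ, hρ, hρ'⟩ := exists_rank f.left hS u
  have hlift : ∀ A : Set.Ici T, ∃ v, v ⤳ u ∧ AlgSp.Points.ofPt a v = A.1.isIrreducible.genericPoint := fun A =>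
    AlgSpD.exists_lift_of_specializes X hX a ha u _ (hu ▸ PtTop.Catenary.specializes_genericPoint A.2)
  choose v hv hva using hlift
  have hwd : ∀ (A : Set.Ici T) (w : ↥U.left), w ⤳ u → AlgSp.Points.ofPt a w = A.1.isIrreducible.genericPoint →
      ρ w = ρ (v A) := fun A w hw hwa => by
    obtain ⟨e1, e2⟩ := hres w (v A) (hwa.trans (hva A).symm)
    exact hρ' _ _ hw (hv A) e1 e2
  have key : ∀ A B : Set.Ici T, A < B →
      ρ (v A) < ρ (v B) ∧ (A ⋖ B → ρ (v B) = ρ (v A) + 1) := by
    intro A B hAB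
    obtain ⟨w, hw, hwa⟩ := AlgSpD.exists_lift_of_specializes X hX a ha (v A) B.1.isIrreducible.genericPoint
      (hva A ▸ PtTop.Catenary.specializes_genericPoint hAB.le)
    have hne : w ≠ v A := fun h => hAB.ne
      (Subtype.ext (PtTop.Catenary.genericPoint_injective ((hva A).symm.trans ((congrArg _ h.symm).trans hwa))))
    obtain ⟨h1, h2⟩ := hρ w (v A) hw (hv A) hne
    rw [← hwd B w (hw.trans (hv A)) hwa]
    refine ⟨h1, fun hcov => h2 fun z hwz hzA => ?_⟩
    let C : IrreducibleCloseds (AlgSp.Points X.obj) :=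
      ⟨closure {AlgSp.Points.ofPt a z}, isIrreducible_singleton.closure, isClosed_closure⟩
    have hC : AlgSp.Points.ofPt a z = C.isIrreducible.genericPoint :=
      PtTop.Catenary.eq_genericPoint_of_closure_eq rfl
    have h3 : A.1 ≤ C := by
      change (A.1 : Set (AlgSp.Points X.obj)) ⊆ closure {AlgSp.Points.ofPt a z}
      rw [← A.1.isIrreducible.closure_genericPoint A.1.isClosed, ← hva A]
      exact specializes_iff_closure_subset.1 (hzA.map (AlgSp.Points.continuous_ofPt a))
    have h4 : C ≤ B.1 := by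
      change closure {AlgSp.Points.ofPt a z} ⊆ (B.1 : Set (AlgSp.Points X.obj))
      rw [← B.1.isIrreducible.closure_genericPoint B.1.isClosed, ← hwa]
      exact specializes_iff_closure_subset.1 (hwz.map (AlgSp.Points.continuous_ofPt a))
    rcases hcov.eq_or_eq (c := ⟨C, le_trans A.2 h3⟩) h3 h4 with h | h
    · right
      refine (S10340.result X hX a ha (v A) z ?_ hzA).symm
      rw [hva A, hC, ← h]
    · left
      refine S10340.result X hX a ha z w ?_ hwz
      rw [hwa, hC, ← h]
  exact PtTop.Catenary.cat_of_rank (fun A => ρ (v A)) (fun A B h => (key A B h).1)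
    fun A B h => (key A B h.lt).2 h

end Groth.Agent.DecCat
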